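import Mathlib

/-!
# The algebra of the two charts of a blow-up of a two-generated ideal
-/

set_option autoImplicit false
universe u

noncomputable section

namespace GrothLib.HFrob4

open Polynomial LaurentPolynomial

variable {A : Type u} [CommRing A]

theorem frob_add {p : ℕ} (hp : p.Prime) (h : (p : A) = 0) (x y : A) : (x + y) ^ p = x ^ p + y ^ p := by
  haveI := Fact.mk hp
  rcases subsingleton_or_nontrivial A with hA | hA
  · exact Subsingleton.elim _ _
  · haveI : CharP A p := (CharP.charP_iff_prime_eq_zero hp).2 h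
    exact add_pow_char x y p

theorem frob_add_pow {p : ℕ} (hp : p.Prime) (h : (p : A) = 0) (N : ℕ) (x y : A) :
    (x + y) ^ p ^ N = x ^ p ^ N + y ^ p ^ N := by
  induction N with
  | zero => simp
  | succ N ih => rw [pow_succ, pow_mul, ih, frob_add hp h, ← pow_mul, ← pow_mul]

/-- Laurent polynomials split into a polynomial in `T` and one in `T⁻¹`. -/
theorem exists_split (h : A[T;T⁻¹]) :
    ∃ a k : A[X], h = toLaurent a + LaurentPolynomial.T (-1) * invert (toLaurent k) := by
  induction h using LaurentPolynomial.induction_on' with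
  | add p q hp hq =>
    obtain ⟨a, k, rfl⟩ := hp
    obtain ⟨a', k', rfl⟩ := hq
    exact ⟨a + a', k + k', by simp only [map_add]; ring⟩
  | C_mul_T n r =>
    rcases n with n | n
    · exact ⟨Polynomial.C r * Polynomial.X ^ n, 0, by simp [Polynomial.toLaurent_C_mul_X_pow]⟩
    · refine ⟨0, Polynomial.C r * Polynomial.X ^ n, ?_⟩
      rw [map_zero, zero_add, Polynomial.toLaurent_C_mul_X_pow, map_mul, invert_C, invert_T, mul_left_comm,
        ← LaurentPolynomial.T_add]
      congr 2
      omega

theorem coeff_toLaurent_nat (a : A[X]) (n : ℕ) : (toLaurent a).coeff (n : ℤ) = a.coeff n := by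
  simp [Polynomial.toLaurent_apply, Finsupp.mapDomain_apply Nat.cast_injective, ← Polynomial.toFinsupp_apply]

theorem coeff_toLaurent_neg (a : A[X]) {n : ℤ} (hn : n < 0) : (toLaurent a).coeff n = 0 := by
  simp only [Polynomial.toLaurent_apply, AddMonoidAlgebra.coeff_mapDomain]
  refine Finsupp.mapDomain_notin_range _ _ ?_
  rintro ⟨m, rfl⟩
  omega

/-- A polynomial in `T` equal to one in `T⁻¹` is constant. -/
theorem eq_C_of_eq_invert {a b : A[X]} (h : toLaurent a = invert (toLaurent b)) :
    ∃ c, a = Polynomial.C c ∧ b = Polynomial.C c := by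
  have hh : ∀ n : ℤ, (toLaurent a).coeff n = (toLaurent b).coeff (-n) := fun n => by rw [h, invert_apply]
  have h0 : a.coeff 0 = b.coeff 0 := by
    have := hh ((0 : ℕ) : ℤ)
    rw [coeff_toLaurent_nat] at this
    rw [this, show (-((0 : ℕ) : ℤ)) = ((0 : ℕ) : ℤ) by simp, coeff_toLaurent_nat]
  refine ⟨a.coeff 0, ?_, ?_⟩
  · ext n
    rcases n with _ | n
    · simp
    · have := hh ((n + 1 : ℕ) : ℤ)
      rw [coeff_toLaurent_nat, coeff_toLaurent_neg _ (by omega)] at this
      simp [this]
  · ext n
    rcases n with _ | n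
    · simp [h0]
    · have := hh (-((n + 1 : ℕ) : ℤ))
      rw [neg_neg, coeff_toLaurent_nat, coeff_toLaurent_neg _ (by omega)] at this
      simp [← this]

variable (f g : A)

/-- The equation of the first chart. -/
def eq₁ : A[X] := Polynomial.C f * Polynomial.X - Polynomial.C g

/-- The overlap of the two charts. -/
def L : A[T;T⁻¹] := LaurentPolynomial.C f * LaurentPolynomial.T 1 - LaurentPolynomial.C g

theorem toLaurent_eq₁ : toLaurent (eq₁ f g) = L f g := by
  simp [eq₁, L]

theorem invert_eq₁ : invert (toLaurent (eq₁ g f)) = - (LaurentPolynomial.T (-1) * L f g) := by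
  have h : (LaurentPolynomial.T (-1) : A[T;T⁻¹]) * LaurentPolynomial.T 1 = 1 := by
    rw [← LaurentPolynomial.T_add]; simp
  simp only [eq₁, L, map_sub, map_mul, Polynomial.toLaurent_C, Polynomial.toLaurent_X, invert_C, invert_T]
  linear_combination (LaurentPolynomial.C f : A[T;T⁻¹]) * h

/-- Compatible functions on the two charts come from the base. -/
theorem exists_const {a b : A[X]} {h : A[T;T⁻¹]}
    (hab : toLaurent a - invert (toLaurent b) = L f g * h) :
    ∃ c, a - Polynomial.C c ∈ Ideal.span {eq₁ f g} ∧ b - Polynomial.C c ∈ Ideal.span {eq₁ g f} := by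
  obtain ⟨hp, k, rfl⟩ := exists_split h
  have key : toLaurent (a - eq₁ f g * hp) = invert (toLaurent (b - eq₁ g f * k)) := by
    rw [map_sub, map_mul, toLaurent_eq₁, map_sub, map_mul, map_sub, map_mul, invert_eq₁]
    linear_combination hab
  obtain ⟨c, h1, h2⟩ := eq_C_of_eq_invert key
  exact ⟨c, Ideal.mem_span_singleton'.2 ⟨hp, by rw [← h1]; ring⟩,
    Ideal.mem_span_singleton'.2 ⟨k, by rw [← h2]; ring⟩⟩

/-- The functions vanishing on both charts form an ideal of square zero. -/
theorem mul_eq_zero_of_mem {c d : A} (h1 : Polynomial.C c ∈ Ideal.span {eq₁ f g})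
    (h2 : Polynomial.C c ∈ Ideal.span {eq₁ g f}) (h3 : Polynomial.C d ∈ Ideal.span {eq₁ f g})
    (h4 : Polynomial.C d ∈ Ideal.span {eq₁ g f}) : c * d = 0 := by
  obtain ⟨hc, hhc⟩ := Ideal.mem_span_singleton'.1 h1
  obtain ⟨hd, hhd⟩ := Ideal.mem_span_singleton'.1 h3
  obtain ⟨kd, hkd⟩ := Ideal.mem_span_singleton'.1 h4
  set w : A[T;T⁻¹] := toLaurent hd + LaurentPolynomial.T (-1) * invert (toLaurent kd) with hw
  have e1 : toLaurent hd * L f g = LaurentPolynomial.C d := by
    rw [← toLaurent_eq₁, ← map_mul, hhd, Polynomial.toLaurent_C]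
  have e2 : invert (toLaurent kd) * (- (LaurentPolynomial.T (-1) * L f g)) = LaurentPolynomial.C d := by
    rw [← invert_eq₁, ← map_mul, ← map_mul, hkd, Polynomial.toLaurent_C, invert_C]
  have hwL : L f g * w = 0 := by
    rw [hw]
    linear_combination e1 - e2
  have hc' : toLaurent hc * L f g = LaurentPolynomial.C c := by
    rw [← toLaurent_eq₁, ← map_mul, hhc, Polynomial.toLaurent_C]
  have hcw : LaurentPolynomial.C c * w = 0 := by
    rw [← hc']
    linear_combination (toLaurent hc) * hwL
  have hw0 : w.coeff 0 = hd.coeff 0 := by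
    rw [hw]
    have hz : (LaurentPolynomial.T (-1) * invert (toLaurent kd) : A[T;T⁻¹]).coeff 0 = 0 := by
      have hi : (LaurentPolynomial.T (-1) : A[T;T⁻¹]) * invert (toLaurent kd) =
          invert (toLaurent (Polynomial.X * kd)) := by
        rw [map_mul, map_mul, Polynomial.toLaurent_X, invert_T]
      rw [hi, invert_apply, neg_zero, show (0 : ℤ) = ((0 : ℕ) : ℤ) by simp, coeff_toLaurent_nat]
      simp
    rw [AddMonoidAlgebra.coeff_add, Finsupp.add_apply, hz, add_zero, show (0 : ℤ) = ((0 : ℕ) : ℤ) by simp,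
      coeff_toLaurent_nat]
  have h0 : c * hd.coeff 0 = 0 := by
    have := congrArg (fun q : A[T;T⁻¹] => q.coeff 0) hcw
    simp only [← LaurentPolynomial.smul_eq_C_mul] at this
    simpa [hw0] using this
  have hd0 : d = - (hd.coeff 0 * g) := by
    have := congrArg (fun q : A[X] => q.coeff 0) hhd
    simpa [eq₁] using this.symm
  rw [hd0]
  linear_combination (-g) * h0

end GrothLib.HFrob4
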