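import Groth.Agent.Lib.HFrob4.Sieves

/-!
# The test rings of two-generated blow-ups and of two closed pieces
-/

set_option autoImplicit false
set_option backward.isDefEq.respectTransparency false
universe w u

open CategoryTheory CategoryTheory.Limits AlgebraicGeometry Opposite Polynomial

noncomputable section

namespace GrothLib.HFrob4

variable {A : CommRingCat.{u}} (f g : A)

/-- The centre and the two charts. -/
def threeRing : Fin 3 → CommRingCat.{u}
  | 0 => CommRingCat.of (A ⧸ Ideal.span {f, g})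
  | 1 => CommRingCat.of (A[X] ⧸ Ideal.span {eq₁ f g})
  | 2 => CommRingCat.of (A[X] ⧸ Ideal.span {eq₁ g f})

/-- The maps to the centre and the two charts. -/
def threeMap : ∀ i, A ⟶ threeRing f g i
  | 0 => CommRingCat.ofHom (Ideal.Quotient.mk _)
  | 1 => CommRingCat.ofHom ((Ideal.Quotient.mk _).comp Polynomial.C)
  | 2 => CommRingCat.ofHom ((Ideal.Quotient.mk _).comp Polynomial.C)

theorem threeLifts (p : ℕ) [hp : Fact p.Prime] : Lifts (threeRing f g) (threeMap f g) p where
  lift x hx := by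
    obtain ⟨a, ha⟩ := Ideal.Quotient.mk_surjective (I := Ideal.span {eq₁ f g}) (x 1)
    obtain ⟨b, hb⟩ := Ideal.Quotient.mk_surjective (I := Ideal.span {eq₁ g f}) (x 2)
    obtain ⟨z, hz⟩ := Ideal.Quotient.mk_surjective (I := Ideal.span {f, g}) (x 0)
    let q := Ideal.Quotient.mk (Ideal.span {L f g})
    have h1 : ∀ r ∈ Ideal.span {eq₁ f g}, q.comp toLaurent r = 0 := fun r hr => by
      obtain ⟨r', rfl⟩ := Ideal.mem_span_singleton'.1 hr
      simp [q, toLaurent_eq₁]
    have h2 : ∀ r ∈ Ideal.span {eq₁ g f},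
        q.comp ((LaurentPolynomial.invert (R := A)).toRingEquiv.toRingHom.comp toLaurent) r = 0 := fun r hr => by
      obtain ⟨r', rfl⟩ := Ideal.mem_span_singleton'.1 hr
      simp [q, invert_eq₁]
    have h12 := hx 1 2 (CommRingCat.of (LaurentPolynomial A ⧸ Ideal.span {L f g}))
      (CommRingCat.ofHom (Ideal.Quotient.lift _ _ h1)) (CommRingCat.ofHom (Ideal.Quotient.lift _ _ h2))
      (CommRingCat.hom_ext (RingHom.ext fun r => (show q (toLaurent (Polynomial.C r)) =
        q (LaurentPolynomial.invert (toLaurent (Polynomial.C r))) by rw [Polynomial.toLaurent_C, LaurentPolynomial.invert_C])))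
    rw [← ha, ← hb] at h12
    obtain ⟨k, hk⟩ := Ideal.mem_span_singleton'.1 (Ideal.Quotient.eq.1 (show q (toLaurent a) =
      q (LaurentPolynomial.invert (toLaurent b)) from h12))
    obtain ⟨c, hc1, hc2⟩ := exists_const f g (h := k) (by rw [← hk, mul_comm])
    have e1 : (threeMap f g 1).hom c = x 1 := (Ideal.Quotient.eq.2 hc1).symm.trans ha
    have h3 : ∀ r ∈ Ideal.span {eq₁ f g},
        Polynomial.mapRingHom (Ideal.Quotient.mk (Ideal.span {f, g})) r = 0 := fun r hr => by
      obtain ⟨r', rfl⟩ := Ideal.mem_span_singleton'.1 hr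
      simp [eq₁, (quot_pair_eq_zero f g).1, (quot_pair_eq_zero f g).2]
    have h01 := hx 0 1 (CommRingCat.of (A ⧸ Ideal.span {f, g})[X]) (CommRingCat.ofHom Polynomial.C)
      (CommRingCat.ofHom (Ideal.Quotient.lift _ _ h3))
      (CommRingCat.hom_ext (RingHom.ext fun r => (Polynomial.map_C (Ideal.Quotient.mk (Ideal.span {f, g}))).symm))
    rw [← hz, ← e1] at h01
    have e0 : (threeMap f g 0).hom c = x 0 := by
      have h4 : (Polynomial.C (Ideal.Quotient.mk (Ideal.span {f, g}) z) : (A ⧸ Ideal.span {f, g})[X]) =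
          Polynomial.C (Ideal.Quotient.mk (Ideal.span {f, g}) c) :=
        h01.trans ((Ideal.Quotient.lift_mk _ _ h3).trans (Polynomial.map_C _))
      exact (Polynomial.C_injective h4).symm.trans hz
    refine ⟨c, fun i => ?_⟩
    fin_cases i
    · exact e0
    · exact e1
    · exact (Ideal.Quotient.eq.2 hc2).symm.trans hb
  ker := by
    refine ⟨1, fun k hk => ?_⟩
    have h1 := Ideal.Quotient.eq_zero_iff_mem.1 (hk 1)
    have h2 := Ideal.Quotient.eq_zero_iff_mem.1 (hk 2)
    refine pow_eq_zero_of_le (m := 2) ?_ ((sq k).trans (mul_eq_zero_of_mem f g h1 h2 h1 h2))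
    rw [pow_one]
    exact hp.out.two_le

theorem threeRing_iff {W : CommRingCat.{u}} (h : A ⟶ W) :
    ((h.hom f = 0 ∧ h.hom g = 0) ∨ (∃ a, h.hom f * a = h.hom g) ∨ ∃ a, h.hom g * a = h.hom f) ↔
      ∃ (i : Fin 3) (ψ : threeRing f g i ⟶ W), threeMap f g i ≫ ψ = h := by
  constructor
  · rintro (⟨h1, h2⟩ | ⟨a, ha⟩ | ⟨a, ha⟩)
    · refine ⟨0, CommRingCat.ofHom (Ideal.Quotient.lift _ h.hom fun x hx => ?_), CommRingCat.hom_ext (RingHom.ext fun x => rfl)⟩
      obtain ⟨r, s, rfl⟩ := Ideal.mem_span_pair.1 hx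
      simp [h1, h2]
    · exact ⟨1, CommRingCat.ofHom (Ideal.Quotient.lift _ (Polynomial.eval₂RingHom h.hom a) fun x hx => by
        obtain ⟨r, rfl⟩ := Ideal.mem_span_singleton'.1 hx
        simp [eq₁, ha]), CommRingCat.hom_ext (RingHom.ext fun x => Polynomial.eval₂_C _ _)⟩
    · exact ⟨2, CommRingCat.ofHom (Ideal.Quotient.lift _ (Polynomial.eval₂RingHom h.hom a) fun x hx => by
        obtain ⟨r, rfl⟩ := Ideal.mem_span_singleton'.1 hx
        simp [eq₁, ha]), CommRingCat.hom_ext (RingHom.ext fun x => Polynomial.eval₂_C _ _)⟩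
  · rintro ⟨i, ψ, rfl⟩
    fin_cases i
    · refine Or.inl ⟨?_, ?_⟩
      · show ψ.hom (Ideal.Quotient.mk (Ideal.span {f, g}) f) = 0
        exact (congrArg ψ.hom (quot_pair_eq_zero f g).1).trans (map_zero _)
      · show ψ.hom (Ideal.Quotient.mk (Ideal.span {f, g}) g) = 0
        exact (congrArg ψ.hom (quot_pair_eq_zero f g).2).trans (map_zero _)
    · refine Or.inr (Or.inl ⟨ψ.hom (Ideal.Quotient.mk _ Polynomial.X), ?_⟩)
      refine (map_mul ψ.hom _ _).symm.trans (congrArg ψ.hom ?_)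
      exact (map_mul _ _ _).symm.trans (Ideal.Quotient.eq.2 (Ideal.mem_span_singleton_self _))
    · refine Or.inr (Or.inr ⟨ψ.hom (Ideal.Quotient.mk _ Polynomial.X), ?_⟩)
      refine (map_mul ψ.hom _ _).symm.trans (congrArg ψ.hom ?_)
      exact (map_mul _ _ _).symm.trans (Ideal.Quotient.eq.2 (Ideal.mem_span_singleton_self _))

variable (I : Ideal A)

/-- Two closed pieces. -/
def twoRing : Fin 2 → CommRingCat.{u}
  | 0 => CommRingCat.of (A ⧸ Ideal.span {g})
  | 1 => CommRingCat.of (A ⧸ I)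

/-- The maps to the two closed pieces. -/
def twoMap : ∀ i, A ⟶ twoRing g I i
  | 0 => CommRingCat.ofHom (Ideal.Quotient.mk _)
  | 1 => CommRingCat.ofHom (Ideal.Quotient.mk _)

theorem twoLifts (p : ℕ) [hp : Fact p.Prime] {N : ℕ} (hI : Ideal.span {g ^ N} * I = ⊥) :
    Lifts (twoRing g I) (twoMap g I) p where
  lift x hx := by
    obtain ⟨a, ha⟩ := Ideal.Quotient.mk_surjective (I := Ideal.span {g}) (x 0)
    obtain ⟨b, hb⟩ := Ideal.Quotient.mk_surjective (I := I) (x 1)
    have h01 := hx 0 1 (CommRingCat.of (A ⧸ (Ideal.span {g} ⊔ I)))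
      (CommRingCat.ofHom (Ideal.Quotient.factor le_sup_left)) (CommRingCat.ofHom (Ideal.Quotient.factor le_sup_right))
      (by ext r; rfl)
    rw [← ha, ← hb] at h01
    obtain ⟨y, hy, z, hz, hyz⟩ := Submodule.mem_sup.1 (Ideal.Quotient.eq.1 (show
      Ideal.Quotient.mk (Ideal.span {g} ⊔ I) a = Ideal.Quotient.mk _ b from h01))
    refine ⟨a - y, fun i => ?_⟩
    fin_cases i
    · exact (Ideal.Quotient.eq.2 (by simpa using hy)).trans ha
    · refine (Ideal.Quotient.eq.2 ?_).trans hb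
      rw [show a - y - b = z by linear_combination -hyz]
      exact hz
  ker := by
    refine ⟨N + 1, fun k hk => ?_⟩
    have h1 := Ideal.Quotient.eq_zero_iff_mem.1 (hk 0)
    have h2 := Ideal.Quotient.eq_zero_iff_mem.1 (hk 1)
    obtain ⟨r, hr⟩ := Ideal.mem_span_singleton'.1 h1
    have h0 : k ^ (N + 1) = 0 := by
      have : g ^ N * k = 0 := by
        rw [← Ideal.mem_bot, ← hI]
        exact Ideal.mul_mem_mul (Ideal.mem_span_singleton_self _) h2
      rw [pow_succ]
      nth_rw 1 [← hr]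
      rw [mul_pow, mul_assoc, this, mul_zero]
    exact pow_eq_zero_of_le (Nat.lt_pow_self hp.out.one_lt).le h0

theorem twoRing_iff {W : CommRingCat.{u}} (h : A ⟶ W) :
    ((Ideal.span {g}).map h.hom = ⊥ ∨ I.map h.hom = ⊥) ↔
      ∃ (i : Fin 2) (ψ : twoRing g I i ⟶ W), twoMap g I i ≫ ψ = h := by
  constructor
  · rintro (h1 | h1)
    · exact ⟨0, CommRingCat.ofHom (Ideal.Quotient.lift _ h.hom fun a ha =>
        (Submodule.mem_bot _).1 (h1 ▸ Ideal.mem_map_of_mem _ ha)), CommRingCat.hom_ext (RingHom.ext fun x => rfl)⟩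
    · exact ⟨1, CommRingCat.ofHom (Ideal.Quotient.lift _ h.hom fun a ha =>
        (Submodule.mem_bot _).1 (h1 ▸ Ideal.mem_map_of_mem _ ha)), CommRingCat.hom_ext (RingHom.ext fun x => rfl)⟩
  · rintro ⟨i, ψ, rfl⟩
    fin_cases i
    · refine Or.inl ((Ideal.map_eq_bot_iff_le_ker _).2 fun a ha => ?_)
      show ψ.hom (Ideal.Quotient.mk (Ideal.span {g}) a) = 0
      exact (congrArg ψ.hom (Ideal.Quotient.eq_zero_iff_mem.2 ha)).trans (map_zero _)
    · refine Or.inr ((Ideal.map_eq_bot_iff_le_ker _).2 fun a ha => ?_)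
      show ψ.hom (Ideal.Quotient.mk I a) = 0
      exact (congrArg ψ.hom (Ideal.Quotient.eq_zero_iff_mem.2 ha)).trans (map_zero _)

end GrothLib.HFrob4
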