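import Groth.Agent.Lib.HFrob4.Main
import Groth.Agent.Lib.HFrob4.Rings

/-!
# Compatible sequences of sections form an h sheaf
-/

set_option autoImplicit false
set_option backward.isDefEq.respectTransparency false
universe u

open CategoryTheory CategoryTheory.Limits AlgebraicGeometry Opposite

noncomputable section

namespace GrothLib.HFrob4

variable {p : ℕ} [Fact p.Prime] {S : Scheme.{u}}

theorem threeCond_frobLim (hS : (p : Γ(S, ⊤)) = 0) : ThreeCond (HTop.frobLimPresheaf p S) := fun A hA f g =>
  isSheafFor_tests hS _ (threeRing f g) (threeMap f g)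
    (fun h => (Sieve.overEquiv_symm_iff _ _).trans (threeRing_iff f g h.left.appTop)) (threeLifts f g p)

theorem twoCond_frobLim (hS : (p : Γ(S, ⊤)) = 0) : TwoCond (HTop.frobLimPresheaf p S) := fun A hA g I N hI =>
  isSheafFor_tests hS _ (twoRing g I) (twoMap g I)
    (fun h => (Sieve.overEquiv_symm_iff _ _).trans (twoRing_iff g I h.left.appTop)) (twoLifts g I p hI)

theorem isSheaf_Jh_frobLim (hS : (p : Γ(S, ⊤)) = 0) :
    Presieve.IsSheaf (HTop.Jh S) (HTop.frobLimPresheaf p S) :=
  isSheaf_Jh (isSheaf_zariski_frobLim p) (flatCond_frobLim p)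
    (absCond (isSheaf_zariski_frobLim p) (threeCond_frobLim hS) (twoCond_frobLim hS))

end GrothLib.HFrob4
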