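import Groth.Agent.Lib.HFrob4.Sieves
import Groth.Agent.Lib.HTop.Ph

/-!
# The criterion for h sheaves through absorbing sieves
-/

set_option autoImplicit false
set_option backward.isDefEq.respectTransparency false
universe w u

open CategoryTheory CategoryTheory.Limits AlgebraicGeometry Opposite TopologicalSpace

noncomputable section

namespace GrothLib.HFrob4

open GrothLib.HSquare4

variable {S : Scheme.{u}} {F : (Over S)ᵒᵖ ⥤ Type w}
variable (hZ : Presieve.IsSheaf (Scheme.zariskiTopology.over S) F)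

include hZ in
theorem of_proper_noetherian (hP : FlatCond F) (hS : AbsCond F) {P₀ Y₀ : Scheme.{u}} [IsNoetherian Y₀]
    (f₀ : P₀ ⟶ Y₀) [IsProper f₀] [Surjective f₀] :
    ∀ (C : Closeds Y₀) (Y : Scheme.{u}) (j : Y ⟶ Y₀) [IsClosedImmersion j], Set.range j = (C : Set Y₀) →
      K F (Sieve.generate (Presieve.singleton (pullback.snd f₀ j))) := by
  intro C
  induction C using WellFoundedLT.induction with
  | _ C IH =>
  intro Y j _ hj
  haveI : IsLocallyNoetherian Y := LocallyOfFiniteType.isLocallyNoetherian j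
  haveI : CompactSpace Y := QuasiCompact.compactSpace_of_compactSpace j
  haveI : IsNoetherian Y := {}
  let V := (Scheme.IdealSheafData.vanishingIdeal (⊤ : Closeds Y))
  let ι := V.subschemeι
  haveI : IsReduced V.subscheme := GrothLib.RedSub.isReduced_subscheme_vanishingIdeal _
  have hrange : Set.range ι = Set.univ := by
    simp [ι, Scheme.IdealSheafData.range_subschemeι, V]
  haveI : Surjective ι := ⟨fun y => Set.eq_univ_iff_forall.1 hrange y⟩
  haveI : IsLocallyNoetherian V.subscheme := LocallyOfFiniteType.isLocallyNoetherian ι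
  haveI : CompactSpace V.subscheme := QuasiCompact.compactSpace_of_compactSpace ι
  haveI : IsNoetherian V.subscheme := {}
  -- reduce to the reduced scheme
  have hT : K F (Sieve.generate (Presieve.singleton ι)) := by
    refine hS ι.ker _ ⟨fun W g hg => ?_, fun W g hg => ?_⟩
    · exact ⟨_, IsClosedImmersion.lift ι g ((comap_eq_bot_iff g _).1 hg), ι, ⟨⟩,
        IsClosedImmersion.lift_fac _ _ _⟩
    · haveI : IsEmpty W := ⟨fun w => by
        obtain ⟨z, hz⟩ := QuasiSober.sober (isIrreducible_irreducibleComponent (x := w)) isClosed_irreducibleComponent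
        have hmax : ∀ y, y ⤳ z → y = z := fun y hy => by
          have hC := irreducibleComponent_mem_irreducibleComponents w
          have h1 : irreducibleComponent w ⊆ closure {y} := by rw [← hz.def]; exact hy.closure_subset
          exact (hy.antisymm (hz.specializes (hC.2 isIrreducible_singleton.closure h1 (subset_closure rfl)))).eq
        refine GrothLib.BlowUp.notMem_support_of_maximal hg hmax ?_
        rw [← SetLike.mem_coe, Scheme.IdealSheafData.support_comap, Closeds.coe_preimage, Set.mem_preimage,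
          Scheme.Hom.support_ker]
        exact subset_closure (Set.eq_univ_iff_forall.1 hrange (g z))⟩
      exact ⟨_, isInitialOfIsEmpty.to _, ι, ⟨⟩, isInitialOfIsEmpty.hom_ext _ _⟩
  refine hT.trans ?_
  rintro W _ ⟨_, p, _, ⟨⟩, rfl⟩
  rw [Sieve.pullback_comp]
  refine K.pullback ?_ p
  let f₂ := pullback.snd f₀ (ι ≫ j)
  refine K.mono ?_ (generate_singleton_le_pullback (pullback.snd f₀ j) f₂ ι
    (pullback.lift (pullback.fst f₀ (ι ≫ j)) (f₂ ≫ ι) (by rw [Category.assoc, pullback.condition]))
    (pullback.lift_snd _ _ _))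
  by_cases hne : Nonempty V.subscheme
  swap
  · haveI : IsEmpty V.subscheme := not_nonempty_iff.1 hne
    exact K.top.mono fun W g _ =>
      ⟨_, g ≫ isInitialOfIsEmpty.to _, f₂, ⟨⟩, by
        rw [Category.assoc, isInitialOfIsEmpty.hom_ext (isInitialOfIsEmpty.to _ ≫ f₂) (𝟙 _), Category.comp_id]⟩
  obtain ⟨U, J, R', b, hUd, -, hb, hJ, -, key⟩ :=
    Groth.Agent.S14793.result (NoetherianSpace.isCompact _) f₂ (univSSubtrusive_of_universallyClosed f₂)
  have hT2 : K F (pairSieve J.subschemeι b) := by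
    refine hS J _ ⟨fun W g hg => Or.inl ?_, fun W g hg => Or.inr ?_⟩
    · exact ⟨IsClosedImmersion.lift J.subschemeι g
        (by rw [Scheme.IdealSheafData.ker_subschemeι]; exact (comap_eq_bot_iff g _).1 hg),
        IsClosedImmersion.lift_fac _ _ _⟩
    · obtain ⟨h, hh, -⟩ := hb.2 W g hg
      exact ⟨h, hh⟩
  refine hT2.trans ?_
  rintro W' _ (⟨p', rfl⟩ | ⟨p', rfl⟩) <;> rw [Sieve.pullback_comp] <;> refine K.pullback ?_ p'
  · let j' := J.subschemeι ≫ ι ≫ j
    let C' : Closeds Y₀ := ⟨Set.range j', j'.isClosedEmbedding.isClosed_range⟩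
    have hlt : C' < C := by
      refine lt_of_le_of_ne (fun x hx => ?_) fun heq => ?_
      · obtain ⟨z, rfl⟩ := hx
        exact hj.le ⟨(J.subschemeι ≫ ι) z, rfl⟩
      · obtain ⟨u, hu⟩ := hUd.nonempty
        have h1 : j (ι u) ∈ (C' : Set Y₀) := by rw [heq]; exact hj.le ⟨_, rfl⟩
        obtain ⟨z, hz⟩ := h1
        have h2 : J.subschemeι z = u := ι.isClosedEmbedding.injective (j.isClosedEmbedding.injective hz)
        refine Set.disjoint_left.1 hJ.2 ?_ hu
        rw [← h2, ← Scheme.IdealSheafData.range_subschemeι]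
        exact Set.mem_range_self z
    refine K.mono (IH C' hlt _ j' rfl) (generate_singleton_le_pullback f₂ (pullback.snd f₀ j') J.subschemeι
      (pullback.lift (pullback.fst f₀ j') (pullback.snd f₀ j' ≫ J.subschemeι) (by
        rw [Category.assoc, pullback.condition])) (pullback.lift_snd _ _ _))
  · haveI : IsProper b := GrothLib.BlowUpProper.isProper_of_isBlowUp hb
    haveI : IsLocallyNoetherian R' := LocallyOfFiniteType.isLocallyNoetherian b
    haveI : CompactSpace R' := QuasiCompact.compactSpace_of_compactSpace b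
    haveI : IsNoetherian R' := {}
    haveI : IsLocallyNoetherian (Limits.pullback f₂ b) := LocallyOfFiniteType.isLocallyNoetherian (pullback.snd f₂ b)
    haveI : CompactSpace (Limits.pullback f₂ b : Scheme.{u}) := QuasiCompact.compactSpace_of_compactSpace (pullback.snd f₂ b)
    haveI : IsNoetherian (Limits.pullback f₂ b) := {}
    obtain ⟨𝒥, h𝒥, -⟩ := GrothLib.SubtrOpen4.exists_strict_ideal ((J.comap f₂).comap (pullback.fst f₂ b))
    obtain ⟨hfl, hsu, hfp, -, -⟩ := key _ _ _ (IsPullback.of_hasPullback f₂ b) 𝒥 h𝒥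
    haveI : IsProper (𝒥.subschemeι ≫ pullback.snd f₂ b) := inferInstance
    refine (K.of_flat hZ hP (𝒥.subschemeι ≫ pullback.snd f₂ b)).mono
      (generate_singleton_le_pullback f₂ _ b (𝒥.subschemeι ≫ pullback.fst f₂ b) ?_)
    rw [Category.assoc, pullback.condition, Category.assoc]

include hZ in
theorem of_proper (hP : FlatCond F) (hS : AbsCond F) {X Y : Scheme.{u}} (f : X ⟶ Y) [IsAffine Y]
    [IsProper f] [Surjective f] [LocallyOfFinitePresentation f] :
    K F (Sieve.generate (Presieve.singleton f)) := by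
  obtain ⟨X₀, Y₀, f₀, a, m, sq, _, _, _⟩ := exists_model_proper_surjective f
  have h0 := of_proper_noetherian hZ hP hS f₀ ⊤ Y₀ (𝟙 Y₀) (by simp)
  refine (h0.pullback m).mono ?_
  rintro W g ⟨_, l, _, ⟨⟩, hl⟩
  refine ⟨X, sq.lift (l ≫ pullback.fst f₀ (𝟙 Y₀)) g ?_, f, ⟨⟩, sq.lift_snd _ _ _⟩
  rw [Category.assoc, pullback.condition, Category.comp_id]
  exact hl

include hZ in
/-- The criterion. -/
theorem isSheaf_Jh (hP : FlatCond F) (hS : AbsCond F) : Presieve.IsSheaf (HTop.Jh S) F := by
  refine GrothLib.HSheafCrit4.isSheaf_Jh hZ fun U V f hU hp hs hfp => ?_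
  have h := of_proper hZ hP hS f.left U (𝟙 U.left) U (𝟙 U)
  rw [Sieve.pullback_id, Sieve.pullback_id] at h
  rw [Presieve.isSheafFor_iff_generate]
  convert h using 2
  refine Sieve.ext fun W g => ?_
  rw [Sieve.overEquiv_symm_iff]
  constructor
  · rintro ⟨_, l, _, ⟨⟩, rfl⟩
    exact ⟨V.left, l.left, f.left, ⟨⟩, rfl⟩
  · rintro ⟨_, l, _, ⟨⟩, hl⟩
    exact ⟨V, Over.homMk l (by rw [← Over.w f, reassoc_of% hl, Over.w g]), f, ⟨⟩, Over.OverMorphism.ext hl⟩

theorem flatCond_frobLim (p : ℕ) : FlatCond (HTop.frobLimPresheaf p S) := by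
  intro X Y f _ hs hfl hp hfp
  rw [Presieve.isSheafFor_iff_generate]
  exact isSheaf_frobLim Scheme.fppfTopology _ (GrothLib.HTop.generate_singleton_mem_over f
    f.left.singleton_mem_fppfPrecoverage)

theorem isSheaf_zariski_frobLim (p : ℕ) :
    Presieve.IsSheaf (Scheme.zariskiTopology.over S) (HTop.frobLimPresheaf p S) :=
  isSheaf_frobLim _

end GrothLib.HFrob4
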