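import Groth.Prelude.Def_W4stkflatFrob
import Mathlib.AlgebraicGeometry.AffineScheme
import Mathlib.AlgebraicGeometry.AffineSpace
import Mathlib.AlgebraicGeometry.Sites.Fpqc
import Groth.Agent.Lib.HFrob4.Algebra

/-!
# Sieves on an affine scheme given by finitely many test rings
-/

set_option autoImplicit false
set_option backward.isDefEq.respectTransparency false
universe u

open CategoryTheory CategoryTheory.Limits AlgebraicGeometry Opposite

noncomputable section

namespace GrothLib.HFrob4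

variable {S : Scheme.{u}} {p : ℕ}

theorem appTop_specMap_isoSpec_inv {A : Scheme.{u}} [IsAffine A] {R : CommRingCat.{u}} (φ : Γ(A, ⊤) ⟶ R) :
    (Spec.map φ ≫ A.isoSpec.inv).appTop = φ ≫ (Scheme.ΓSpecIso R).inv := by
  have h1 : A.isoSpec.hom.appTop = (Scheme.ΓSpecIso Γ(A, ⊤)).hom := Scheme.toSpecΓ_appTop A
  have h2 : A.isoSpec.inv.appTop = (Scheme.ΓSpecIso Γ(A, ⊤)).inv := by
    rw [← cancel_mono A.isoSpec.hom.appTop, ← Scheme.Hom.comp_appTop, Iso.hom_inv_id, h1, Iso.inv_hom_id]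
    rfl
  rw [Scheme.Hom.comp_appTop, h2, ← Scheme.ΓSpecIso_inv_naturality]

theorem appTop_toSpecΓ_specMap {W : Scheme.{u}} {R : CommRingCat.{u}} (ψ : R ⟶ Γ(W, ⊤)) :
    (W.toSpecΓ ≫ Spec.map ψ).appTop = (Scheme.ΓSpecIso R).hom ≫ ψ := by
  rw [Scheme.Hom.comp_appTop, Scheme.toSpecΓ_appTop, Scheme.ΓSpecIso_naturality]

theorem natCast_eq_zero (hS : (p : Γ(S, ⊤)) = 0) (A : Over S) : (p : Γ(A.left, ⊤)) = 0 := by
  rw [← map_natCast A.hom.appTop.hom, hS, map_zero]

/-- The test rings lift elements one level at a time, uniquely up to bounded nilpotents. -/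
structure Lifts {A : CommRingCat.{u}} {ι : Type} (C : ι → CommRingCat.{u}) (φ : ∀ i, A ⟶ C i) (p : ℕ) : Prop where
  lift : ∀ x : ∀ i, C i, (∀ (i j : ι) (D : CommRingCat.{u}) (α : C i ⟶ D) (β : C j ⟶ D),
    φ i ≫ α = φ j ≫ β → α.hom (x i) = β.hom (x j)) → ∃ c, ∀ i, (φ i).hom c = x i
  ker : ∃ N : ℕ, ∀ k, (∀ i, (φ i).hom k = 0) → k ^ p ^ N = 0

theorem pow_frobLim {R : CommRingCat.{u}} {a : ℕ → R} (h : ∀ n, a (n + 1) ^ p = a n) (n N : ℕ) :
    a (n + N) ^ p ^ N = a n := by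
  induction N with
  | zero => simp
  | succ N ih => rw [pow_succ', pow_mul, ← Nat.add_assoc, h, ih]

theorem Lifts.existsUnique [hp : Fact p.Prime] {A : CommRingCat.{u}} (hA : (p : A) = 0) {ι : Type}
    {C : ι → CommRingCat.{u}} {φ : ∀ i, A ⟶ C i} (h : Lifts C φ p) (x : ∀ i, ℕ → C i)
    (hx : ∀ i n, x i (n + 1) ^ p = x i n)
    (hc : ∀ (i j : ι) (D : CommRingCat.{u}) (α : C i ⟶ D) (β : C j ⟶ D), φ i ≫ α = φ j ≫ β →
      ∀ n, α.hom (x i n) = β.hom (x j n)) :
    (∃ c : ℕ → A, (∀ n, c (n + 1) ^ p = c n) ∧ ∀ i n, (φ i).hom (c n) = x i n) ∧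
      ∀ c c' : ℕ → A, (∀ n, c (n + 1) ^ p = c n) → (∀ n, c' (n + 1) ^ p = c' n) →
        (∀ i n, (φ i).hom (c n) = (φ i).hom (c' n)) → c = c' := by
  obtain ⟨N, hN⟩ := h.ker
  have key : ∀ a b : A, (∀ i, (φ i).hom a = (φ i).hom b) → a ^ p ^ N = b ^ p ^ N := by
    intro a b hab
    have := frob_add_pow hp.out hA N b (a - b)
    rw [hN (a - b) fun i => by rw [map_sub, hab, sub_self], add_zero, add_sub_cancel] at this
    exact this
  refine ⟨?_, fun c c' hc1 hc2 heq => funext fun n => ?_⟩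
  · choose c0 hc0 using fun n => h.lift (fun i => x i n) fun i j D α β he => hc i j D α β he n
    refine ⟨fun n => c0 (n + N) ^ p ^ N, fun n => ?_, fun i n => ?_⟩
    · rw [← pow_mul, mul_comm, pow_mul, show n + 1 + N = n + N + 1 by omega]
      exact key _ _ fun i => by rw [map_pow, hc0, hc0, hx]
    · rw [map_pow, hc0, pow_frobLim (hx i)]
  · rw [← pow_frobLim hc1 n N, ← pow_frobLim hc2 n N]
    exact key _ _ fun i => heq i _

/-- The sieve condition for test rings. -/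
theorem isSheafFor_tests [Fact p.Prime] (hS : (p : Γ(S, ⊤)) = 0) {A : Over S} [IsAffine A.left] (R : Sieve A)
    {ι : Type} (C : ι → CommRingCat.{u}) (φ : ∀ i, Γ(A.left, ⊤) ⟶ C i)
    (hR : ∀ {W : Over S} (h : W ⟶ A), R h ↔ ∃ (i : ι) (ψ : C i ⟶ Γ(W.left, ⊤)), φ i ≫ ψ = h.left.appTop)
    (hl : Lifts C φ p) : Presieve.IsSheafFor (HTop.frobLimPresheaf p S) R.arrows := by
  let Q : ι → Over S := fun i => Over.mk ((Spec.map (φ i) ≫ A.left.isoSpec.inv) ≫ A.hom)
  let q : ∀ i, Q i ⟶ A := fun i => Over.homMk (Spec.map (φ i) ≫ A.left.isoSpec.inv)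
  have hq : ∀ i, R (q i) := fun i =>
    (hR _).2 ⟨i, (Scheme.ΓSpecIso _).inv, (appTop_specMap_isoSpec_inv _).symm⟩
  intro x hx
  let xv : ∀ i, ℕ → C i := fun i n => (Scheme.ΓSpecIso (C i)).hom.hom ((x (q i) (hq i)).1 n)
  have hxv : ∀ i n, xv i (n + 1) ^ p = xv i n := fun i n => by
    simp only [xv, ← map_pow]
    rw [(x (q i) (hq i)).2 n]
  have hcomp : ∀ (i j : ι) (D : CommRingCat.{u}) (α : C i ⟶ D) (β : C j ⟶ D), φ i ≫ α = φ j ≫ β →
      ∀ n, α.hom (xv i n) = β.hom (xv j n) := by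
    intro i j D α β he n
    let Do : Over S := Over.mk (Spec.map α ≫ (Q i).hom)
    let l₁ : Do ⟶ Q i := Over.homMk (Spec.map α)
    let l₂ : Do ⟶ Q j := Over.homMk (Spec.map β) (by
      simp only [Do, Q, Over.mk_hom, Category.assoc]
      rw [← Spec.map_comp_assoc, ← Spec.map_comp_assoc, he])
    have hl12 : l₁ ≫ q i = l₂ ≫ q j := Over.OverMorphism.ext (by
      show Spec.map α ≫ Spec.map (φ i) ≫ _ = Spec.map β ≫ Spec.map (φ j) ≫ _
      rw [← Spec.map_comp_assoc, ← Spec.map_comp_assoc, he])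
    have h := congrArg (fun s : HTop.FrobLimSections p (Spec D) => (Scheme.ΓSpecIso D).hom.hom (s.1 n))
      (hx l₁ l₂ (hq i) (hq j) hl12)
    have ev : ∀ {k : ι} (γ : C k ⟶ D) (y : Γ(Spec (C k), ⊤)),
        (Scheme.ΓSpecIso D).hom.hom ((Spec.map γ).appTop.hom y) = γ.hom ((Scheme.ΓSpecIso (C k)).hom.hom y) :=
      fun {k} γ y => by
        have := congrArg (fun φ => φ.hom y) (Scheme.ΓSpecIso_naturality γ)
        exact this
    exact (ev α _).symm.trans (h.trans (ev β _))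
  obtain ⟨⟨c, hc, hci⟩, hu⟩ := hl.existsUnique (natCast_eq_zero hS A) xv hxv hcomp
  refine ⟨⟨c, hc⟩, fun W h hh => ?_, fun y hy => ?_⟩
  · obtain ⟨i, ψ, hψ⟩ := (hR h).1 hh
    let l : W ⟶ Q i := Over.homMk (W.left.toSpecΓ ≫ Spec.map ψ) (by
      have e : (W.left.toSpecΓ ≫ Spec.map ψ) ≫ Spec.map (φ i) ≫ A.left.isoSpec.inv = h.left := by
        refine ext_of_isAffine ?_
        rw [Scheme.Hom.comp_appTop, appTop_specMap_isoSpec_inv, appTop_toSpecΓ_specMap, Category.assoc,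
          Iso.inv_hom_id_assoc, hψ]
      simp only [Q, Over.mk_hom]
      rw [← Category.assoc, e]
      exact Over.w h)
    have hlq : l ≫ q i = h := Over.OverMorphism.ext (by
      refine ext_of_isAffine ?_
      show ((W.left.toSpecΓ ≫ Spec.map ψ) ≫ Spec.map (φ i) ≫ A.left.isoSpec.inv).appTop = _
      rw [Scheme.Hom.comp_appTop, appTop_specMap_isoSpec_inv, appTop_toSpecΓ_specMap, Category.assoc,
        Iso.inv_hom_id_assoc, hψ])
    have h' := hx (𝟙 W) l hh (hq i) (by rw [Category.id_comp, hlq])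
    apply HTop.FrobLimSections.ext
    intro n
    show h.left.appTop.hom (c n) = (x h hh).1 n
    have h'' := congrArg (fun s : HTop.FrobLimSections p W.left => s.1 n) h'
    simp only [op_id, Functor.map_id] at h''
    refine Eq.trans ?_ h''.symm
    show h.left.appTop.hom (c n) = (W.left.toSpecΓ ≫ Spec.map ψ).appTop.hom ((x (q i) (hq i)).1 n)
    rw [appTop_toSpecΓ_specMap, ← hψ, CommRingCat.comp_apply, CommRingCat.comp_apply, hci]
  · refine Subtype.ext (hu _ _ y.2 hc fun i n => ?_)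
    have h1 : (q i).left.appTop.hom (y.1 n) = (x (q i) (hq i)).1 n :=
      congrArg (fun s : HTop.FrobLimSections p (Q i).left => s.1 n) (hy (q i) (hq i))
    have h2 : (q i).left.appTop = φ i ≫ (Scheme.ΓSpecIso _).inv := appTop_specMap_isoSpec_inv _
    rw [h2, CommRingCat.comp_apply] at h1
    rw [hci, show xv i n = (Scheme.ΓSpecIso (C i)).hom.hom ((x (q i) (hq i)).1 n) from rfl, ← h1]
    exact ((Scheme.ΓSpecIso (C i)).commRingCatIsoToRingEquiv.apply_symm_apply _).symm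

/-- Compatible sequences of sections satisfy descent for subcanonical topologies. -/
theorem isSheaf_frobLim (J : GrothendieckTopology Scheme.{u}) [J.Subcanonical] :
    Presieve.IsSheaf (J.over S) (HTop.frobLimPresheaf p S) := by
  intro Y T hT x hx
  let T' := Sieve.overEquiv Y T
  have hT' : T' ∈ J Y.left := (GrothendieckTopology.mem_over_iff _ _).1 hT
  let A1 : Scheme.{u} := Spec (CommRingCat.of (MvPolynomial PUnit.{u + 1} (ULift.{u} ℤ)))
  let e : ∀ W : Scheme.{u}, (W ⟶ A1) ≃ (PUnit.{u + 1} → Γ(W, ⊤)) := fun W => AffineSpace.toSpecMvPolyIntEquiv _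
  have hnat : ∀ {W W' : Scheme.{u}} (g : W ⟶ W') (a : W' ⟶ A1), e W (g ≫ a) PUnit.unit =
      g.appTop.hom (e W' a PUnit.unit) := fun g a => rfl
  have hsh : Presieve.IsSheafFor (yoneda.obj A1) T'.arrows :=
    GrothendieckTopology.Subcanonical.isSheaf_of_isRepresentable _ T' hT'
  have hmem : ∀ {W : Scheme.{u}} (g : W ⟶ Y.left), T' g →
      T (Over.homMk g : Over.mk (g ≫ Y.hom) ⟶ Y) := fun {W} g hg => (Sieve.overEquiv_iff T g).1 hg
  have hglue : ∀ n : ℕ, ∃! a : Γ(Y.left, ⊤), ∀ {W : Scheme.{u}} (g : W ⟶ Y.left) (hg : T' g),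
      g.appTop.hom a = (x _ (hmem g hg)).1 n := by
    intro n
    let xf : Presieve.FamilyOfElements (yoneda.obj A1) T'.arrows :=
      fun W g hg => (e W).symm fun _ => (x _ (hmem g hg)).1 n
    have hxf : xf.Compatible := by
      intro W₁ W₂ Z g₁ g₂ f₁ f₂ h₁ h₂ he
      apply (e Z).injective
      funext u
      show e Z (g₁ ≫ xf f₁ h₁) PUnit.unit = e Z (g₂ ≫ xf f₂ h₂) PUnit.unit
      rw [hnat, hnat]
      simp only [xf, Equiv.apply_symm_apply]
      let Zo : Over S := Over.mk ((g₁ ≫ f₁) ≫ Y.hom)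
      have h12 := hx (Over.homMk g₁ : Zo ⟶ Over.mk (f₁ ≫ Y.hom))
        (Over.homMk g₂ (by simp [Zo, he]) : Zo ⟶ Over.mk (f₂ ≫ Y.hom)) (hmem f₁ h₁) (hmem f₂ h₂)
        (Over.OverMorphism.ext he)
      exact congrArg (fun s : HTop.FrobLimSections p Z => s.1 n) h12
    obtain ⟨a, ha, hau⟩ := hsh xf hxf
    refine ⟨e Y.left a PUnit.unit, fun {W} g hg => ?_, fun b hb => ?_⟩
    · rw [← hnat, show g ≫ a = xf g hg from ha g hg]
      simp [xf]
    · have : (e Y.left).symm (fun _ => b) = a := hau _ fun W g hg => by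
        apply (e W).injective
        funext u
        show e W (g ≫ _) PUnit.unit = _
        rw [hnat]
        simp [xf, hb g hg]
      rw [← this]
      simp
  choose a ha hau using hglue
  have ha' : ∀ n, a (n + 1) ^ p = a n := fun n => hau n _ fun {W} g hg => by
    rw [map_pow, ha (n + 1) g hg, (x _ (hmem g hg)).2 n]
  refine ⟨⟨a, ha'⟩, fun W h hh => ?_, fun y hy => ?_⟩
  · have hg : T' h.left := (Sieve.overEquiv_iff T h.left).2 (by
      have : (Over.homMk h.left : Over.mk (h.left ≫ Y.hom) ⟶ Y) =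
          (Over.homMk (𝟙 W.left) (by simp) : Over.mk (h.left ≫ Y.hom) ⟶ W) ≫ h := by ext1; simp
      rw [this]
      exact T.downward_closed hh _)
    have h1 := hx (Over.homMk (𝟙 W.left) (by simp) : W ⟶ Over.mk (h.left ≫ Y.hom)) (𝟙 W) (hmem _ hg) hh
      (Over.OverMorphism.ext (by simp))
    apply HTop.FrobLimSections.ext
    intro n
    show h.left.appTop.hom (a n) = _
    rw [ha n h.left hg]
    have h2 := congrArg (fun s : HTop.FrobLimSections p W.left => s.1 n) h1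
    simpa [HTop.frobLimPresheaf] using h2
  · refine Subtype.ext (funext fun n => hau n _ fun {W} g hg => ?_)
    exact congrArg (fun s : HTop.FrobLimSections p W => s.1 n) (hy _ (hmem g hg))

end GrothLib.HFrob4
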