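import Groth.Agent.Lib.HSquare4.Main
import Groth.Agent.Lib.HFrob4.Tests

/-!
# Charts of two-generated blow-ups and unions of two closed subschemes as coverings
-/

set_option autoImplicit false
set_option backward.isDefEq.respectTransparency false
universe w u

open CategoryTheory CategoryTheory.Limits AlgebraicGeometry Opposite

noncomputable section

namespace GrothLib.HFrob4

open GrothLib.HSquare4

/-- Arrows along which both sections vanish, or one divides the other. -/
def threeSieve {X : Scheme.{u}} (f g : Γ(X, ⊤)) : Sieve X where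
  arrows := fun W h => (h.appTop.hom f = 0 ∧ h.appTop.hom g = 0) ∨
    (∃ a : Γ(W, ⊤), h.appTop.hom f * a = h.appTop.hom g) ∨ ∃ a : Γ(W, ⊤), h.appTop.hom g * a = h.appTop.hom f
  downward_closed := by
    rintro W W' h (⟨h1, h2⟩ | ⟨a, ha⟩ | ⟨a, ha⟩) k
    · exact Or.inl ⟨by rw [Scheme.Hom.comp_appTop, CommRingCat.comp_apply, h1, map_zero],
        by rw [Scheme.Hom.comp_appTop, CommRingCat.comp_apply, h2, map_zero]⟩
    · exact Or.inr (Or.inl ⟨k.appTop.hom a, by
        simp only [Scheme.Hom.comp_appTop, CommRingCat.comp_apply, ← map_mul, ha]⟩)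
    · exact Or.inr (Or.inr ⟨k.appTop.hom a, by
        simp only [Scheme.Hom.comp_appTop, CommRingCat.comp_apply, ← map_mul, ha]⟩)

theorem threeSieve_pullback {X Y : Scheme.{u}} (q : Y ⟶ X) (f g : Γ(X, ⊤)) :
    (threeSieve f g).pullback q = threeSieve (q.appTop.hom f) (q.appTop.hom g) :=
  Sieve.ext fun W h => by
    show threeSieve f g (h ≫ q) ↔ _
    simp only [threeSieve, Scheme.Hom.comp_appTop, CommRingCat.comp_apply]

/-- Arrows killing one of two ideals. -/
def twoSieve {X : Scheme.{u}} (I₁ I₂ : Ideal Γ(X, ⊤)) : Sieve X where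
  arrows := fun W h => I₁.map h.appTop.hom = ⊥ ∨ I₂.map h.appTop.hom = ⊥
  downward_closed := by
    rintro W W' h (h1 | h1) k
    · exact Or.inl (by rw [Scheme.Hom.comp_appTop, CommRingCat.hom_comp, ← Ideal.map_map, h1, Ideal.map_bot])
    · exact Or.inr (by rw [Scheme.Hom.comp_appTop, CommRingCat.hom_comp, ← Ideal.map_map, h1, Ideal.map_bot])

theorem twoSieve_pullback {X Y : Scheme.{u}} (q : Y ⟶ X) (I₁ I₂ : Ideal Γ(X, ⊤)) :
    (twoSieve I₁ I₂).pullback q = twoSieve (I₁.map q.appTop.hom) (I₂.map q.appTop.hom) :=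
  Sieve.ext fun W h => by
    show twoSieve I₁ I₂ (h ≫ q) ↔ _
    simp only [twoSieve, Scheme.Hom.comp_appTop, CommRingCat.hom_comp, ← Ideal.map_map]

variable {S : Scheme.{u}}

/-- The sheaf condition for the charts of two-generated blow-ups. -/
def ThreeCond (F : (Over S)ᵒᵖ ⥤ Type w) : Prop :=
  ∀ (A : Over S), IsAffine A.left → ∀ f g : Γ(A.left, ⊤),
    Presieve.IsSheafFor F ((Sieve.overEquiv A).symm (threeSieve f g)).arrows

/-- The sheaf condition for two closed pieces. -/
def TwoCond (F : (Over S)ᵒᵖ ⥤ Type w) : Prop :=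
  ∀ (A : Over S), IsAffine A.left → ∀ (g : Γ(A.left, ⊤)) (I : Ideal Γ(A.left, ⊤)) (N : ℕ),
    Ideal.span {g ^ N} * I = ⊥ →
    Presieve.IsSheafFor F ((Sieve.overEquiv A).symm (twoSieve (Ideal.span {g}) I)).arrows

/-- Sieves absorbing a centre on a Noetherian scheme are covering. -/
def AbsCond (F : (Over S)ᵒᵖ ⥤ Type w) : Prop :=
  ∀ {X : Scheme.{u}} [IsNoetherian X] (J : X.IdealSheafData) (T : Sieve X), Absorbs J T → K F T

variable {F : (Over S)ᵒᵖ ⥤ Type w} (hZ : Presieve.IsSheaf (Scheme.zariskiTopology.over S) F)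

/-- The map of a test ring. -/
abbrev testMap {X : Scheme.{u}} [IsAffine X] {R : CommRingCat.{u}} (φ : Γ(X, ⊤) ⟶ R) : Spec R ⟶ X :=
  Spec.map φ ≫ X.isoSpec.inv

theorem mem_of_factor {X : Scheme.{u}} [IsAffine X] {R : CommRingCat.{u}} (φ : Γ(X, ⊤) ⟶ R) (T : Sieve X)
    (hT : T (testMap φ)) {W : Scheme.{u}} (h : W ⟶ X) (ψ : R ⟶ Γ(W, ⊤)) (hψ : φ ≫ ψ = h.appTop) : T h := by
  have : (W.toSpecΓ ≫ Spec.map ψ) ≫ testMap φ = h := by
    refine ext_of_isAffine ?_
    rw [Scheme.Hom.comp_appTop, appTop_specMap_isoSpec_inv, appTop_toSpecΓ_specMap, Category.assoc,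
      Iso.inv_hom_id_assoc, hψ]
  exact this ▸ T.downward_closed hT _

theorem appTop_testMap_apply {X : Scheme.{u}} [IsAffine X] {R : CommRingCat.{u}} (φ : Γ(X, ⊤) ⟶ R)
    (x : Γ(X, ⊤)) : (testMap φ).appTop.hom x = (Scheme.ΓSpecIso R).inv.hom (φ.hom x) := by
  rw [appTop_specMap_isoSpec_inv, CommRingCat.comp_apply]

theorem isEffCartier_span {X : Scheme.{u}} [IsAffine X] {g : Γ(X, ⊤)} (hg : g ∈ nonZeroDivisors Γ(X, ⊤)) :
    BlowUp.IsEffCartierIdeal (Scheme.IdealSheafData.ofIdealTop (Ideal.span {g})) := fun _ =>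
  ⟨⟨⊤, isAffineOpen_top X⟩, trivial, g, hg, by simp [Scheme.IdealSheafData.ofIdealTop]⟩

theorem isNoetherian_spec (R : CommRingCat.{u}) [IsNoetherianRing R] : IsNoetherian (Spec R) :=
  inferInstance

theorem span_list_cons₂ {X : Type*} [CommRing X] (a c : X) (l : List X) :
    Ideal.span {x | x ∈ a :: c :: l} = Ideal.span {a, c} ⊔ Ideal.span {x | x ∈ l} := by
  rw [← Ideal.span_union]
  congr 1
  ext x
  simp [or_assoc]

theorem quot_pair_eq_zero {R : Type*} [CommRing R] (a c : R) :
    Ideal.Quotient.mk (Ideal.span {a, c}) a = 0 ∧ Ideal.Quotient.mk (Ideal.span {a, c}) c = 0 :=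
  ⟨Ideal.Quotient.eq_zero_iff_mem.2 (Ideal.subset_span (Or.inl rfl)),
    Ideal.Quotient.eq_zero_iff_mem.2 (Ideal.subset_span (Or.inr rfl))⟩

theorem span_testMap_zero {X : Scheme.{u}} [IsAffine X] {R : CommRingCat.{u}} (φ : Γ(X, ⊤) ⟶ R) {a c : Γ(X, ⊤)}
    (ha : φ.hom a = 0) (hc : φ.hom c = 0) :
    Ideal.span {x | x ∈ ([] : List Γ(Spec R, ⊤))} =
      Ideal.span {(testMap φ).appTop.hom a, (testMap φ).appTop.hom c} := by
  rw [appTop_testMap_apply, appTop_testMap_apply, ha, hc, map_zero]
  simp

set_option maxHeartbeats 1000000 in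
include hZ in
theorem absCond_list (h3 : ThreeCond F) (h2 : TwoCond F) (n : ℕ) :
    ∀ {X : Scheme.{u}} [IsNoetherian X] [IsAffine X] (l : List Γ(X, ⊤)), l.length ≤ n → ∀ (T : Sieve X),
      Absorbs (Scheme.IdealSheafData.ofIdealTop (Ideal.span {x | x ∈ l})) T → K F T := by
  induction n with
  | zero =>
    intro X _ _ l hl T hT
    obtain rfl : l = [] := List.length_eq_zero_iff.1 (Nat.le_zero.1 hl)
    have h0 : Scheme.IdealSheafData.ofIdealTop (Ideal.span {x | x ∈ ([] : List Γ(X, ⊤))}) = ⊥ :=
      Scheme.IdealSheafData.ext_of_isAffine (by simp [Scheme.IdealSheafData.ofIdealTop])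
    rw [h0] at hT
    have h1 := hT.1 X (𝟙 X) (Scheme.IdealSheafData.comap_bot _)
    exact K.top.mono fun W g _ => by simpa using T.downward_closed h1 g
  | succ n ih =>
    intro X _ _ l hl T hT
    haveI : IsNoetherianRing Γ(X, ⊤) := IsLocallyNoetherian.component_noetherian ⟨⊤, isAffineOpen_top X⟩
    match l, hl, hT with
    | [], _, hT => exact ih [] (Nat.zero_le _) T hT
    | [g], _, hT =>
      rw [show Ideal.span {x | x ∈ [g]} = Ideal.span {g} by simp] at hT
      let ann : ℕ →o Ideal Γ(X, ⊤) :=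
        { toFun := fun N =>
            { carrier := {a | g ^ N * a = 0}
              add_mem' := fun {a b} (ha : g ^ N * a = 0) (hb : g ^ N * b = 0) => show g ^ N * (a + b) = 0 by
                rw [mul_add, ha, hb, add_zero]
              zero_mem' := mul_zero _
              smul_mem' := fun r a (ha : g ^ N * a = 0) => show g ^ N * (r * a) = 0 by
                rw [mul_left_comm, ha, mul_zero] }
          monotone' := fun N M hNM a (ha : g ^ N * a = 0) => show g ^ M * a = 0 by
            obtain ⟨d, rfl⟩ := Nat.exists_eq_add_of_le hNM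
            rw [pow_add, mul_comm (g ^ N), mul_assoc, ha, mul_zero] }
      obtain ⟨N, hN⟩ := monotone_stabilizes_iff_noetherian.2 inferInstance ann
      let I := ann N
      have hI : Ideal.span {g ^ N} * I = ⊥ := by
        rw [eq_bot_iff, Ideal.mul_le]
        intro r hr a ha
        obtain ⟨r', rfl⟩ := Ideal.mem_span_singleton'.1 hr
        show r' * g ^ N * a = 0
        rw [mul_assoc, show g ^ N * a = 0 from ha, mul_zero]
      have hK : K F (twoSieve (Ideal.span {g}) I) := K.of_affine hZ _ fun A q hA => by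
        rw [twoSieve_pullback, Ideal.map_span, Set.image_singleton]
        refine h2 A hA _ _ N ?_
        rw [← map_pow, ← Set.image_singleton, ← Ideal.map_span, ← Ideal.map_mul, hI, Ideal.map_bot]
      refine hK.mono ?_
      have key : ∀ (I' : Ideal Γ(X, ⊤)), T (testMap (CommRingCat.ofHom (Ideal.Quotient.mk I'))) →
          ∀ {W : Scheme.{u}} (h : W ⟶ X), I'.map h.appTop.hom = ⊥ → T h := fun I' hT' W h hI' =>
        mem_of_factor _ T hT' h (CommRingCat.ofHom (Ideal.Quotient.lift I' h.appTop.hom fun a ha =>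
          (Submodule.mem_bot _).1 (hI' ▸ Ideal.mem_map_of_mem _ ha))) (by ext a; simp)
      rintro W h (h1 | h1)
      · refine key _ (hT.1 _ _ ?_) h h1
        rw [comap_ofIdealTop, Ideal.map_span, Set.image_singleton, appTop_testMap_apply]
        refine Scheme.IdealSheafData.ext_of_isAffine ?_
        have h0 : (Ideal.Quotient.mk (Ideal.span {g}) g) = 0 :=
          Ideal.Quotient.eq_zero_iff_mem.2 (Ideal.mem_span_singleton_self g)
        simp [Scheme.IdealSheafData.ofIdealTop, h0]
      · refine key _ (hT.2 _ _ ?_) h h1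
        rw [comap_ofIdealTop, Ideal.map_span, Set.image_singleton, appTop_testMap_apply]
        refine isEffCartier_span (mem_nonZeroDivisors_iff_right.2 fun y hy => ?_)
        let e := (Scheme.ΓSpecIso (CommRingCat.of (Γ(X, ⊤) ⧸ I))).commRingCatIsoToRingEquiv
        obtain ⟨a, ha⟩ := Ideal.Quotient.mk_surjective (e y)
        have h1' : Ideal.Quotient.mk I (a * g) = 0 := by
          rw [map_mul, ha]
          have := congrArg e hy
          rw [map_mul, map_zero] at this
          refine Eq.trans ?_ this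
          congr 1
          exact (e.apply_symm_apply _).symm
        have h2' : a ∈ ann (N + 1) := show g ^ (N + 1) * a = 0 by
          have := Ideal.Quotient.eq_zero_iff_mem.1 h1'
          rw [pow_succ, mul_assoc, mul_comm g a]
          exact this
        rw [← hN (N + 1) (Nat.le_succ N)] at h2'
        have : e y = 0 := by rw [← ha]; exact Ideal.Quotient.eq_zero_iff_mem.2 h2'
        simpa using congrArg e.symm this
    | a :: c :: rest, hl, hT =>
      have hK : K F (threeSieve a c) := K.of_affine hZ _ fun A q hA => by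
        rw [threeSieve_pullback]
        exact h3 A hA _ _
      refine hK.trans ?_
      have step : ∀ (R : CommRingCat.{u}) (φ : Γ(X, ⊤) ⟶ R), IsNoetherianRing R →
          (∃ extra : List Γ(Spec R, ⊤), extra.length ≤ 1 ∧
            Ideal.span {x | x ∈ extra} = Ideal.span {(testMap φ).appTop.hom a, (testMap φ).appTop.hom c}) →
          ∀ {W : Scheme.{u}} (h : W ⟶ X) (ψ : R ⟶ Γ(W, ⊤)), φ ≫ ψ = h.appTop → K F (T.pullback h) := by
        intro R φ hR ⟨extra, hlen, hext⟩ W h ψ hψ
        have hh : (W.toSpecΓ ≫ Spec.map ψ) ≫ testMap φ = h := by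
          refine ext_of_isAffine ?_
          rw [Scheme.Hom.comp_appTop, appTop_specMap_isoSpec_inv, appTop_toSpecΓ_specMap, Category.assoc,
            Iso.inv_hom_id_assoc, hψ]
        rw [← hh, Sieve.pullback_comp]
        refine K.pullback ?_ _
        haveI : IsNoetherian (Spec R) := isNoetherian_spec R
        refine ih (extra ++ rest.map (testMap φ).appTop.hom) ?_ _ ?_
        · simp only [List.length_append, List.length_map, List.length_cons] at hl ⊢
          omega
        · have h' := hT.pullback (testMap φ)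
          rw [span_list_cons₂, comap_ofIdealTop, Ideal.map_sup, Ideal.map_span, Set.image_pair, ← hext,
            Ideal.map_span, ← Ideal.span_union] at h'
          convert h' using 4
          ext x
          simp
      have chart : ∀ (x y : Γ(X, ⊤)), Ideal.span {x, y} = Ideal.span {a, c} →
          ∀ {W : Scheme.{u}} (h : W ⟶ X) (v : Γ(W, ⊤)), h.appTop.hom x * v = h.appTop.hom y →
            K F (T.pullback h) := by
        intro x y hxy W h v hv
        let φ : Γ(X, ⊤) ⟶ CommRingCat.of (Polynomial Γ(X, ⊤) ⧸ Ideal.span {eq₁ x y}) :=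
          CommRingCat.ofHom ((Ideal.Quotient.mk (Ideal.span {eq₁ x y})).comp Polynomial.C)
        have hl : ∀ r ∈ Ideal.span {eq₁ x y}, Polynomial.eval₂RingHom h.appTop.hom v r = 0 := fun r hr => by
          obtain ⟨r', rfl⟩ := Ideal.mem_span_singleton'.1 hr
          simp [eq₁, hv]
        refine step _ φ (isNoetherianRing_of_surjective _ _ _ Ideal.Quotient.mk_surjective)
          ⟨[(testMap φ).appTop.hom x], by simp, ?_⟩ h
          (CommRingCat.ofHom (Ideal.Quotient.lift _ (Polynomial.eval₂RingHom h.appTop.hom v) hl)) ?_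
        · have e : Ideal.Quotient.mk (Ideal.span {eq₁ x y}) (Polynomial.C x) *
              Ideal.Quotient.mk (Ideal.span {eq₁ x y}) Polynomial.X =
              Ideal.Quotient.mk (Ideal.span {eq₁ x y}) (Polynomial.C y) := by
            rw [← map_mul, Ideal.Quotient.eq]
            exact Ideal.mem_span_singleton_self _
          have hdvd : (testMap φ).appTop.hom x ∣ (testMap φ).appTop.hom y := by
            rw [appTop_testMap_apply, appTop_testMap_apply]
            refine map_dvd _ ⟨Ideal.Quotient.mk (Ideal.span {eq₁ x y}) Polynomial.X, ?_⟩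
            exact e.symm
          rw [← Set.image_pair, ← Ideal.map_span, ← hxy, Ideal.map_span, Set.image_pair,
            Ideal.span_insert, sup_eq_left.2 (Ideal.span_singleton_le_span_singleton.2 hdvd)]
          simp
        · ext r
          simp [φ]
      rintro W h (⟨h1, h2⟩ | ⟨u, hu⟩ | ⟨u, hu⟩)
      · have hl : ∀ x ∈ Ideal.span {a, c}, h.appTop.hom x = 0 := fun x hx => by
          obtain ⟨r, s, rfl⟩ := Ideal.mem_span_pair.1 hx
          rw [map_add, map_mul, map_mul, h1, h2, mul_zero, mul_zero, add_zero]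
        exact step _ (CommRingCat.ofHom (Ideal.Quotient.mk (Ideal.span {a, c})))
          (isNoetherianRing_of_surjective _ _ _ Ideal.Quotient.mk_surjective)
          ⟨[], Nat.zero_le _, span_testMap_zero _ (quot_pair_eq_zero a c).1 (quot_pair_eq_zero a c).2⟩ h
          (CommRingCat.ofHom (Ideal.Quotient.lift _ h.appTop.hom hl))
          (CommRingCat.hom_ext (RingHom.ext fun x => rfl))
      · exact chart a c rfl h u hu
      · exact chart c a (by rw [Set.pair_comm]) h u hu

include hZ in
theorem absCond (h3 : ThreeCond F) (h2 : TwoCond F) : AbsCond F := by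
  intro X _ J T hT
  refine (K.of_zariski hZ X.affineCover.mem_grothendieckTopology).trans ?_
  rintro W g ⟨_, p, _, ⟨k⟩, rfl⟩
  rw [Sieve.pullback_comp]
  refine K.pullback ?_ p
  haveI : IsLocallyNoetherian (X.affineCover.X k) := isLocallyNoetherian_of_isOpenImmersion (X.affineCover.f k)
  haveI : IsAffine (X.affineCover.X k) := inferInstance
  haveI : IsNoetherian (X.affineCover.X k) := {}
  let A := X.affineCover.X k
  haveI : IsNoetherianRing Γ(A, ⊤) := IsLocallyNoetherian.component_noetherian ⟨⊤, isAffineOpen_top A⟩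
  obtain ⟨s, hs⟩ : ((J.comap (X.affineCover.f k)).ideal ⟨⊤, isAffineOpen_top A⟩).FG := IsNoetherian.noetherian _
  refine absCond_list hZ h3 h2 _ s.toList le_rfl _ ?_
  have h := hT.pullback (X.affineCover.f k)
  rw [← ofIdealTop_ideal (J.comap (X.affineCover.f k)), ← hs] at h
  simpa using h

end GrothLib.HFrob4
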